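import Groth.Agent.L03.SurfAdj.Tools
import Groth.Agent.L03.SurfNum.Fibre
import Groth.Agent.L03.SurfNum.CurveDegree
import Groth.Agent.L03.Ruled.Push
import Groth.Agent.L13.CurveContr.Artin
import Groth.Agent.L21.Duality.Canonical
import Groth.Agent.L21.RR.ProjLineGenus
import Groth.Agent.L21.RR.Twist
import Groth.Agent.L21.RR.Mul
import Groth.Agent.L21.CurveAdj.Powers
import Groth.Agent.L22.CurveDeg.NonSpecial

/-!
# Globally generated modules, nefness and rational curves
-/

set_option autoImplicit false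
set_option backward.isDefEq.respectTransparency false
set_option linter.style.haveILetI false
set_option linter.unusedSectionVars false

universe u

open CategoryTheory CategoryTheory.Limits AlgebraicGeometry TopologicalSpace
open Groth.L22 Groth.L22.Inter Groth.L22.Nef Groth.L22.Big Groth.L03.SurfNum

noncomputable section

namespace Groth.L03.Hirz

open Groth.L21.RR (h hk st)

variable {X : Scheme.{u}}

theorem gg_one : Curv2.IsGloballyGenerated (Coh.structureModule X) :=
  Groth.L21.RR.isGloballyGenerated_of_sections fun x => ⟨𝟙 _, fun v => ⟨v, by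
    simp only [Groth.L21.RR.st, CategoryTheory.Functor.map_id]; rfl⟩⟩

theorem gg_tensor {L M : X.Modules} (hL : PicF.IsInvertible L) (hM : PicF.IsInvertible M)
    (h : Curv2.IsGloballyGenerated L) (h' : Curv2.IsGloballyGenerated M) :
    Curv2.IsGloballyGenerated (CohB1.tensorMod L M) := by
  refine Groth.L21.RR.isGloballyGenerated_of_sections fun x => ?_
  obtain ⟨s, hs⟩ := Groth.L18.Ample.exists_genLocus_mem_of_gg hL h x
  obtain ⟨t, ht⟩ := Groth.L18.Ample.exists_genLocus_mem_of_gg hM h' x
  refine ⟨Groth.L18.GenLoc.tensHom s t,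
    (Groth.L21.CurveAdj.mem_genLocus_iff' (Groth.L18.GenLoc.isInvertible_tensor hL hM) _ x).1 ?_⟩
  rw [Groth.L18.GenLoc.genLocus_tensHom hL hM]
  exact ⟨hs, ht⟩

theorem gg_pow {L : X.Modules} (hL : PicF.IsInvertible L) (h : Curv2.IsGloballyGenerated L) :
    ∀ n : ℕ, Curv2.IsGloballyGenerated (CohB1.tensorPow L n)
  | 0 => gg_one
  | n + 1 => gg_tensor (Groth.L18.Ample.isInvertible_tensorPow hL n) hL (gg_pow hL h n) h

variable (k : Type u) [Field k] [X.Over (Spec (CommRingCat.of k))] [IsProper (X ↘ Spec (CommRingCat.of k))]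
  [IsIntegral X]

/-- Globally generated invertible modules are nef. -/
theorem isNef_of_gg (hd : topologicalKrullDim X ≤ (2 : ℕ)) {L : X.Modules} (hL : PicF.IsInvertible L) (h : Curv2.IsGloballyGenerated L) :
    IsNef k L := by
  refine ⟨hL, fun y hy => ?_⟩
  obtain ⟨s, hs⟩ := Groth.L18.Ample.exists_genLocus_mem_of_gg hL h y
  exact altT_pt_nonneg k hd hL s hs (hy.trans Nat.cast_one.symm)

theorem nontrivial_of_gg [Nonempty X] {L : X.Modules} (hL : PicF.IsInvertible L) (h : Curv2.IsGloballyGenerated L) :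
    ∃ s : Coh.structureModule X ⟶ L, s ≠ 0 := by
  obtain ⟨x⟩ := ‹Nonempty X›
  obtain ⟨s, hs⟩ := Groth.L18.Ample.exists_genLocus_mem_of_gg hL h x
  refine ⟨s, fun h0 => ?_⟩
  obtain ⟨g, hg⟩ := Groth.L21.RR.exists_frame_stalk hL x
  obtain ⟨w, hw⟩ := (Groth.L21.CurveAdj.mem_genLocus_iff' hL s x).1 hs g
  rw [h0] at hw
  have hw0 : g = 0 := hw.symm.trans (by simp only [Groth.L21.RR.st, Functor.map_zero]; rfl)
  haveI : Nontrivial (X.presheaf.stalk x) := inferInstance
  exact one_ne_zero (hg.1 (show (1 : X.presheaf.stalk x) • g = (0 : X.presheaf.stalk x) • g by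
    rw [hw0, smul_zero, smul_zero]))

/-- An effective module meets a nef module nonnegatively. -/
theorem ii_nonneg_of_section (hd : topologicalKrullDim X ≤ (2 : ℕ)) {N B : X.Modules} (hN : PicF.IsInvertible N)
    (hB : IsNef k B) (hs : Nontrivial (Coh.HH X N 0)) : 0 ≤ ii k N B := by
  haveI := Groth.L21.RR.isNoetherian_of_proper (X := X) k
  obtain ⟨s, hs⟩ := Groth.L21.RR.exists_hom_ne_zero (L := N)
  haveI : Mono s := Groth.L21.RR.mono_of_ne_zero hN hs
  obtain ⟨hD, hη⟩ := cokernel_facts k (Groth.L18.Ample.isInvertible_structureModule X) hN s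
  rw [ii_eq_coker k hd hN hB.1 s]
  exact altT_nonneg_of_points k (fun _ => hB.1) hD
    (dim_le_of_generic_notMem (Groth.L16.CohSupport.isClosed_support _ hD.2) hη hd)
    fun y hy => hB.2 y (hy.trans Nat.cast_one)

variable [IsAlgClosed k]

/-- A base point free module of degree one on an integral curve has two independent sections. -/
theorem two_le_h0 (hd : topologicalKrullDim X ≤ 1) {A : X.Modules} (hA : PicF.IsInvertible A)
    (hgg : Curv2.IsGloballyGenerated A) (hdeg : Curv2.deg k X A 1 = 1) : 2 ≤ h k 0 A := by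
  haveI := Groth.L21.RR.isNoetherian_of_proper (X := X) k
  obtain ⟨φ, hφ⟩ := nontrivial_of_gg hA hgg
  have hQ := Groth.L21.RR.deg_eq_h0_cokernel k hd hA hφ
  rw [hdeg] at hQ
  have hAc := Groth.L16.ProperFinite.isCoh_of_isInvertible hA
  have hO := Groth.L16.CohClosedPush.isCoh_structure (X := X)
  haveI := Groth.L21.RR.finite_HH' k hAc 0
  haveI := Groth.L21.RR.finite_HH' k hO 0
  haveI := Groth.L21.RR.mono_of_ne_zero hA hφ
  have hS : (ShortComplex.mk φ (cokernel.π φ) (cokernel.condition φ)).ShortExact :=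
    { exact := ShortComplex.exact_cokernel φ }
  have h1 : h k 0 (Coh.structureModule X) = 1 := Groth.L22.CurveDeg.h0_structure_eq_one k
  by_contra hlt
  -- the map to the cokernel kills all sections
  have hinj := Groth.L22.Big.h0_le_of_mono k φ hAc
  rw [Groth.L22.Big.h0_def, Groth.L22.Big.h0_def] at hinj
  have hsurj : Function.Surjective (hk k φ 0) := by
    have hi : Function.Injective (hk k φ 0) := Groth.L21.RR.injective_hmap_zero φ
    refine (LinearMap.injective_iff_surjective_of_finrank_eq_finrank ?_).1 hi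
    show h k 0 (Coh.structureModule X) = h k 0 A
    have : h k 0 (Coh.structureModule X) ≤ h k 0 A := hinj
    omega
  have hπ : cokernel.π φ = 0 := by
    refine Groth.L18.Ample.eq_zero_of_killsGlobal hgg _ fun t => ?_
    obtain ⟨w, hw⟩ := hsurj ((Groth.L21.RR.e0 A).symm t)
    have h3 := congrArg (Groth.L21.RR.e0 A) hw
    rw [AddEquiv.apply_symm_apply] at h3
    rw [← h3, show (hk k φ 0) w = Groth.L16.CohLinear.hmap φ 0 w from rfl, Groth.L21.RR.e0_hmap]
    show (φ ≫ cokernel.π φ).app ⊤ _ = 0
    rw [cokernel.condition]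
    rfl
  have hz : IsZero (cokernel φ) := (IsZero.iff_id_eq_zero _).2 (by
    rw [← cancel_epi (cokernel.π φ), hπ]; simp)
  haveI := Groth.L03.Euler.subsingleton_HH_of_isZero hz 0
  have : h k 0 (cokernel φ) = 0 := Module.finrank_zero_of_subsingleton
  omega

/-- On a curve without `H¹(O)`, modules of degree zero are trivial and positive ones have no `H¹`. -/
theorem trivial_of_deg_zero (hd : topologicalKrullDim X ≤ 1) (h1 : Subsingleton (Coh.HH X (Coh.structureModule X) 1))
    {L : X.Modules} (hL : PicF.IsInvertible L) (hdeg : Curv2.deg k X L 1 = 0) :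
    Nonempty (Coh.structureModule X ≅ L) := by
  haveI := Groth.L21.RR.isNoetherian_of_proper (X := X) k
  refine Groth.L21.Duality.nonempty_iso_of_deg_eq_zero hd hL hdeg (Module.nontrivial_of_finrank_pos (R := k) ?_)
  show 0 < h k 0 L
  have hd' : Curv2.deg k X L 1 = Curv2.euler k X L - (1 : ℕ) * Curv2.euler k X (Coh.structureModule X) := rfl
  rw [hdeg, Groth.L21.RR.euler_eq k hd, Groth.L21.RR.euler_eq k hd, Groth.L22.CurveDeg.h0_structure_eq_one k,
    Groth.L21.RR.h_eq_zero_of_subsingleton k h1] at hd'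
  push_cast at hd'
  omega

end Groth.L03.Hirz
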